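import Groth.Prelude.Def_CohB1
import Mathlib.AlgebraicGeometry.Morphisms.UnderlyingMap
import Mathlib.AlgebraicGeometry.Morphisms.ClosedImmersion

set_option autoImplicit false
universe u

open CategoryTheory Limits AlgebraicGeometry MvPolynomial HomogeneousLocalization

namespace GrothLib.ProjSp

variable (n : ℕ) (R : Type u) [CommRing R]

noncomputable abbrev x0 : MvPolynomial (Fin (n + 1)) R := X 0

lemma x0_mem : x0 n R ∈ CohB1.polyGrading n R 1 := isHomogeneous_X R 0

noncomputable def evalPt : MvPolynomial (Fin (n + 1)) R →+* R :=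
  (MvPolynomial.aeval (fun i => if i = 0 then (1 : R) else 0)).toRingHom

lemma evalPt_C (r : R) : evalPt n R (C r) = r := by simp [evalPt]

lemma evalPt_x0 : evalPt n R (x0 n R) = 1 := by simp [evalPt]

noncomputable def retr : Away (CohB1.polyGrading n R) (x0 n R) →+* R :=
  (IsLocalization.Away.lift (x0 n R) (g := evalPt n R) (by rw [evalPt_x0]; exact isUnit_one)).comp
    (algebraMap (Away (CohB1.polyGrading n R) (x0 n R)) (Localization.Away (x0 n R)))

noncomputable def baseMap : R →+* Away (CohB1.polyGrading n R) (x0 n R) :=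
  (HomogeneousLocalization.fromZeroRingHom (CohB1.polyGrading n R) _).comp
    (algebraMap R (CohB1.polyGrading n R 0))

lemma baseMap_val (r : R) : (baseMap n R r).val =
    algebraMap (MvPolynomial (Fin (n + 1)) R) (Localization.Away (x0 n R)) (C r) := by
  rw [← Localization.mk_one_eq_algebraMap]
  rfl

lemma retr_baseMap : (retr n R).comp (baseMap n R) = RingHom.id R := by
  ext r
  have := baseMap_val n R r
  simp only [RingHom.comp_apply, retr, RingHom.id_apply]
  rw [show algebraMap (Away (CohB1.polyGrading n R) (x0 n R)) (Localization.Away (x0 n R))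
      (baseMap n R r) = (baseMap n R r).val from rfl, this, IsLocalization.Away.lift_eq, evalPt_C]

lemma awayι_toSpec : Proj.awayι (CohB1.polyGrading n R) (x0 n R) (x0_mem n R) Nat.one_pos ≫
    CohB1.ProjSpace.toSpec n R = Spec.map (CommRingCat.ofHom (baseMap n R)) := by
  refine (Proj.awayι_toSpecZero_assoc _ _ _ _ _).trans ?_
  rw [← Spec.map_comp, ← CommRingCat.ofHom_comp]
  rfl

noncomputable def sec : Spec (CommRingCat.of R) ⟶ CohB1.ProjSpace n R :=
  Spec.map (CommRingCat.ofHom (retr n R)) ≫
    Proj.awayι (CohB1.polyGrading n R) (x0 n R) (x0_mem n R) Nat.one_pos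

lemma sec_toSpec : sec n R ≫ CohB1.ProjSpace.toSpec n R = 𝟙 _ := by
  refine (Category.assoc _ _ _).trans ?_
  refine (congrArg (Spec.map (CommRingCat.ofHom (retr n R)) ≫ ·) (awayι_toSpec n R)).trans ?_
  rw [← Spec.map_comp, ← CommRingCat.ofHom_comp, retr_baseMap]
  exact Spec.map_id _

lemma surjective_toBase (S : Scheme.{u}) : Surjective (CohB1.ProjSpaceOver.toBase n S) := by
  let s : S ⟶ CohB1.ProjSpaceOver n S :=
    pullback.lift (specULiftZIsTerminal.from S ≫ sec n (ULift.{u} ℤ)) (𝟙 S)
      (by rw [Category.assoc, sec_toSpec, Category.comp_id, Category.id_comp])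
  refine ⟨fun y => ⟨s y, ?_⟩⟩
  rw [← Scheme.Hom.comp_apply]
  rw [show s ≫ CohB1.ProjSpaceOver.toBase n S = 𝟙 S from pullback.lift_snd _ _ _]
  rfl

lemma baseMap_surjective_zero : Function.Surjective (baseMap 0 R) := by
  intro a
  obtain ⟨k, p, hp, rfl⟩ := Away.mk_surjective _ (x0_mem 0 R) a
  refine ⟨evalPt 0 R p, HomogeneousLocalization.val_injective _ ?_⟩
  have hpk : p = C (evalPt 0 R p) * x0 0 R ^ k := by
    have hh : p.IsHomogeneous k := by simpa using hp
    obtain ⟨c, hc⟩ : ∃ c, p = monomial (Finsupp.single 0 k) c := by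
      refine ⟨p.coeff (Finsupp.single 0 k), MvPolynomial.ext _ _ fun d => ?_⟩
      rw [coeff_monomial]
      split_ifs with h
      · rw [h]
      · refine hh.coeff_eq_zero (fun hd => h ?_)
        have e : d = Finsupp.single (0 : Fin (0 + 1)) (d 0) := by
          refine Finsupp.ext fun i => ?_
          rw [show i = 0 from Fin.ext (by omega), Finsupp.single_eq_same]
        rw [e, Finsupp.degree_single] at hd
        rw [e, hd]
    have h2 : p = C c * x0 0 R ^ k := by
      rw [hc, x0, C_mul_X_pow_eq_monomial]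
    have : evalPt 0 R p = c := by
      rw [h2, map_mul, map_pow, evalPt_C, evalPt_x0, one_pow, mul_one]
    rw [this]; exact h2
  rw [baseMap_val, Away.val_mk, ← Localization.mk_one_eq_algebraMap, Localization.mk_eq_mk_iff,
    Localization.r_iff_exists]
  refine ⟨1, ?_⟩
  simp only [OneMemClass.coe_one, one_mul]
  conv_rhs => rw [hpk]
  ring

lemma isIso_toSpec_zero : IsIso (CohB1.ProjSpace.toSpec 0 R) := by
  have hb : Function.Bijective (baseMap 0 R) :=
    ⟨Function.LeftInverse.injective (g := retr 0 R) fun r => RingHom.congr_fun (retr_baseMap 0 R) r,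
      baseMap_surjective_zero R⟩
  haveI : IsIso (CommRingCat.ofHom (baseMap 0 R)) :=
    (ConcreteCategory.isIso_iff_bijective _).mpr hb
  let ι := Proj.awayι (CohB1.polyGrading 0 R) (x0 0 R) (x0_mem 0 R) Nat.one_pos
  have htop : Proj.basicOpen (CohB1.polyGrading 0 R) (x0 0 R) = ⊤ := by
    have h := Proj.iSup_basicOpen_eq_top' (CohB1.polyGrading 0 R) (fun _ : Fin 1 => x0 0 R)
      (fun _ => ⟨1, x0_mem 0 R⟩) ?_
    · simpa using h
    · refine top_le_iff.mp fun p _ => ?_
      induction p using MvPolynomial.induction_on with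
      | C r =>
        exact Subalgebra.algebraMap_mem _ (⟨C r, isHomogeneous_C _ r⟩ : CohB1.polyGrading 0 R 0)
      | add p q hp hq => exact add_mem (hp trivial) (hq trivial)
      | mul_X p i hp =>
        rw [show i = 0 from Fin.ext (by omega)]
        exact mul_mem (hp trivial) (Algebra.subset_adjoin ⟨0, rfl⟩)
  haveI : Surjective ι := ⟨fun y => by
    have : y ∈ ι.opensRange := by rw [Proj.opensRange_awayι, htop]; trivial
    exact this⟩
  haveI : IsIso ι := (isIso_iff_isOpenImmersion_and_epi_base _).mpr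
    ⟨inferInstance, (TopCat.epi_iff_surjective _).mpr ι.surjective⟩
  have := awayι_toSpec 0 R
  haveI : IsIso (ι ≫ CohB1.ProjSpace.toSpec 0 R) := by rw [this]; infer_instance
  exact IsIso.of_isIso_comp_left ι _

end GrothLib.ProjSp
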