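import Groth.Prelude.Def_CohB1
import Groth.Agent.Lib.ProjPt.Basic

/-!
# Homogeneous coordinates on projective space over the integers
-/

universe u

open AlgebraicGeometry CategoryTheory HomogeneousLocalization MvPolynomial GrothLib.ProjPt

namespace GrothLib.ProjSpCoord

/-- The coefficient ring: the integers, lifted. -/
abbrev RZ : Type u := ULift.{u} ℤ

variable {n : ℕ} {S : Type u} [CommRing S]

theorem X_mem_one (i : Fin (n + 1)) :
    (X i : MvPolynomial (Fin (n + 1)) RZ.{u}) ∈ CohB1.polyGrading n RZ.{u} 1 := isHomogeneous_X _ i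

theorem ringHom_RZ_ext (f g : RZ.{u} →+* S) : f = g := by
  have h : f.comp ULift.ringEquiv.symm.toRingHom = g.comp ULift.ringEquiv.symm.toRingHom :=
    RingHom.ext_int _ _
  refine RingHom.ext fun x => ?_
  exact RingHom.congr_fun h x.down

/-- The homomorphism out of the lifted integers. -/
noncomputable def fromRZ : RZ.{u} →+* S := (Int.castRingHom S).comp ULift.ringEquiv.toRingHom

/-- Evaluation at a tuple. -/
noncomputable def evalTuple (r : Fin (n + 1) → S) : MvPolynomial (Fin (n + 1)) RZ.{u} →+* S :=
  eval₂Hom fromRZ r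

@[simp] theorem evalTuple_X (r : Fin (n + 1) → S) (k : Fin (n + 1)) : evalTuple r (X k) = r k := by
  simp [evalTuple]

/-- `X k / X i`. -/
noncomputable def ratio (i k : Fin (n + 1)) :
    Away (CohB1.polyGrading n RZ.{u}) (X i) :=
  Away.mk (CohB1.polyGrading n RZ.{u}) (X_mem_one i) 1 (X k) (by simpa using X_mem_one k)

theorem evalAway_ratio (f : MvPolynomial (Fin (n + 1)) RZ.{u} →+* S) (i k : Fin (n + 1))
    (hfi : IsUnit (f (X i))) :
    evalAway (CohB1.polyGrading n RZ.{u}) f (X i) hfi (ratio i k) * f (X i) = f (X k) := by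
  have h := evalAway_mk_spec (CohB1.polyGrading n RZ.{u}) f (X_mem_one i) hfi 1 (X k)
    (by simpa using X_mem_one k)
  rwa [pow_one] at h

theorem ratio_self_map {i : Fin (n + 1)} (g : Away (CohB1.polyGrading n RZ.{u}) (X i) →+* S) :
    g (ratio i i) = 1 := by
  have : ratio.{u} i i = 1 := by
    apply HomogeneousLocalization.val_injective
    rw [ratio, Away.val_mk, HomogeneousLocalization.val_one, Localization.mk_eq_mk',
      IsLocalization.mk'_eq_iff_eq_mul]
    simp
  rw [this, map_one]

theorem homogeneous_induction {P : ℕ → MvPolynomial (Fin (n + 1)) RZ.{u} → Prop}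
    (hC : ∀ c, P 0 (C c)) (hadd : ∀ m x y, x ∈ CohB1.polyGrading n RZ.{u} m →
      y ∈ CohB1.polyGrading n RZ.{u} m → P m x → P m y → P m (x + y))
    (hmul : ∀ m x k, x ∈ CohB1.polyGrading n RZ.{u} m → P m x → P (m + 1) (x * X k))
    (m : ℕ) (a : MvPolynomial (Fin (n + 1)) RZ.{u}) (ha : a ∈ CohB1.polyGrading n RZ.{u} m) :
    P m a := by
  have ha' : a.IsHomogeneous m := ha
  suffices H : ∀ (s : Finset (Fin (n + 1) →₀ ℕ)), (∀ d ∈ s, d.degree = m) →
      P m (∑ d ∈ s, monomial d (a.coeff d)) by
    have h := H a.support fun d hd => by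
      rw [Finsupp.degree_eq_weight_one]
      exact ha' (mem_support_iff.mp hd)
    rwa [← a.as_sum] at h
  have hmem : ∀ (d : Fin (n + 1) →₀ ℕ) (c : RZ.{u}), monomial d c ∈
      CohB1.polyGrading n RZ.{u} d.degree := fun d c => isHomogeneous_monomial c rfl
  have hmon : ∀ (d : Fin (n + 1) →₀ ℕ) (c : RZ.{u}), P d.degree (monomial d c) := by
    intro d
    induction d using Finsupp.induction with
    | zero => intro c; simpa using hC c
    | single_add k b d hk hb ih =>
      intro c
      clear hb
      induction b generalizing c with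
      | zero => simpa using ih c
      | succ b ihb =>
        have h1 := hmul _ _ k (hmem _ _) (ihb c)
        rw [show Finsupp.single k (b + 1) + d = (Finsupp.single k b + d) + Finsupp.single k 1 by
          rw [Finsupp.single_add]; abel]
        have e : monomial (Finsupp.single k b + d + Finsupp.single k 1) c =
            monomial (Finsupp.single k b + d) c * X k := by rw [X, monomial_mul, mul_one]
        rw [e, map_add, Finsupp.degree_single]
        exact h1
  intro s
  induction s using Finset.induction_on with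
  | empty =>
    intro _
    have h0 : P m (0 : MvPolynomial (Fin (n + 1)) RZ.{u}) := by
      have h1 := hmon (Finsupp.single 0 m) 0
      rwa [Finsupp.degree_single, map_zero] at h1
    simpa using h0
  | insert d s hd ih =>
    intro hs
    rw [Finset.sum_insert hd]
    have hdm : d.degree = m := hs d (Finset.mem_insert_self _ _)
    refine hadd m _ _ (hdm ▸ hmem d _) (Submodule.sum_mem _ fun e he => ?_) (hdm ▸ hmon d _)
      (ih fun e he => hs e (Finset.mem_insert_of_mem he))
    exact (hs e (Finset.mem_insert_of_mem he)) ▸ hmem e _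

theorem map_eq_pow_mul (f g : MvPolynomial (Fin (n + 1)) RZ.{u} →+* S) (c : S)
    (h : ∀ k, g (X k) = c * f (X k)) :
    ∀ m, ∀ a ∈ CohB1.polyGrading n RZ.{u} m, g a = c ^ m * f a := by
  intro m a ha
  refine homogeneous_induction (P := fun m a => g a = c ^ m * f a) (fun r => ?_)
    (fun m x y _ _ hx hy => ?_) (fun m x k _ hx => ?_) m a ha
  · rw [pow_zero, one_mul]
    exact RingHom.congr_fun (ringHom_RZ_ext (g.comp C) (f.comp C)) r
  · rw [map_add, map_add, hx, hy, mul_add]
  · rw [map_mul, map_mul, hx, h, pow_succ]; ring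

/-- A chart point is evaluation at its coordinates. -/
theorem eq_evalAway {i : Fin (n + 1)} (g : Away (CohB1.polyGrading n RZ.{u}) (X i) →+* S) :
    g = evalAway (CohB1.polyGrading n RZ.{u}) (evalTuple fun k => g (ratio i k)) (X i)
      (by rw [evalTuple_X, ratio_self_map]; exact isUnit_one) := by
  refine RingHom.ext fun z => ?_
  obtain ⟨m, a, ha, rfl⟩ := Away.mk_surjective _ (X_mem_one i) z
  have h := evalAway_mk_spec (CohB1.polyGrading n RZ.{u}) (evalTuple fun k => g (ratio i k))
    (X_mem_one i) (by rw [evalTuple_X, ratio_self_map]; exact isUnit_one) m a ha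
  simp only [evalTuple_X, ratio_self_map, one_pow, mul_one] at h
  rw [h]
  have ha' : a ∈ CohB1.polyGrading n RZ.{u} m := by simpa using ha
  clear h
  refine homogeneous_induction (P := fun m a => ∀ ha : a ∈ CohB1.polyGrading n RZ.{u} (m • 1),
    g (Away.mk _ (X_mem_one i) m a ha) = evalTuple (fun k => g (ratio i k)) a) (fun r hr => ?_)
    (fun m x y hx hy hPx hPy hxy => ?_) (fun m x k hx hP hxk => ?_) m a ha' ha
  · let γ : RZ.{u} →+* Away (CohB1.polyGrading n RZ.{u}) (X i) :=
      (fromZeroRingHom (CohB1.polyGrading n RZ.{u}) _).comp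
        (algebraMap RZ.{u} (CohB1.polyGrading n RZ.{u} 0))
    have h1 : Away.mk (CohB1.polyGrading n RZ.{u}) (X_mem_one i) 0 (C r) hr = γ r := by
      apply HomogeneousLocalization.val_injective
      rw [Away.val_mk]
      change _ = Localization.mk (C r) (1 : Submonoid.powers (X i : MvPolynomial _ RZ.{u}))
      congr 1
    rw [h1, evalTuple, eval₂Hom_C]
    exact RingHom.congr_fun (ringHom_RZ_ext (g.comp γ) fromRZ) r
  · have h1 : Away.mk (CohB1.polyGrading n RZ.{u}) (X_mem_one i) m (x + y) hxy =
        Away.mk _ (X_mem_one i) m x (by simpa using hx) +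
          Away.mk _ (X_mem_one i) m y (by simpa using hy) := by
      apply HomogeneousLocalization.val_injective
      simp [Away.val_mk, Localization.add_mk_self]
    rw [h1, map_add, hPx, hPy, map_add]
  · have h1 : Away.mk (CohB1.polyGrading n RZ.{u}) (X_mem_one i) (m + 1) (x * X k) hxk =
        Away.mk _ (X_mem_one i) m x (by simpa using hx) * ratio i k := by
      apply HomogeneousLocalization.val_injective
      rw [ratio, HomogeneousLocalization.val_mul, Away.val_mk, Away.val_mk, Away.val_mk,
        Localization.mk_mul]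
      congr 1
      exact Subtype.ext (by simp [pow_succ])
    rw [h1, map_mul, hP, map_mul, evalTuple_X]

theorem awayHom_ext {i : Fin (n + 1)} {g g' : Away (CohB1.polyGrading n RZ.{u}) (X i) →+* S}
    (h : ∀ k, g (ratio i k) = g' (ratio i k)) : g = g' := by
  rw [eq_evalAway g, eq_evalAway g']
  congr 1
  · congr 1
    funext k
    exact h k

section scheme

variable {T : Scheme.{u}}

/-- The ratio identity `X k / X i = (X j / X i) * (X k / X j)` for the coordinates of a morphism. -/
theorem coords_change (i j k : Fin (n + 1)) (u : T ⟶ Proj (CohB1.polyGrading n RZ.{u}))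
    (g : Away (CohB1.polyGrading n RZ.{u}) (X i) →+* Γ(T, ⊤))
    (g' : Away (CohB1.polyGrading n RZ.{u}) (X j) →+* Γ(T, ⊤))
    (hg : u = pt (CohB1.polyGrading n RZ.{u}) (X_mem_one i) one_pos g)
    (hg' : u = pt (CohB1.polyGrading n RZ.{u}) (X_mem_one j) one_pos g') :
    g (ratio i k) = g (ratio i j) * g' (ratio j k) := by
  obtain ⟨h, rfl, rfl⟩ :=
    exists_common_chart (CohB1.polyGrading n RZ.{u}) (X_mem_one i) one_pos u (X_mem_one j) one_pos g g' hg hg'
  simp only [RingHom.comp_apply, ← map_mul]
  congr 1
  apply HomogeneousLocalization.val_injective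
  rw [HomogeneousLocalization.val_mul]
  simp only [ratio, awayMap_mk, Away.val_mk, Localization.mk_mul, pow_one]
  rw [Localization.mk_eq_mk_iff, Localization.r_iff_exists]
  refine ⟨1, ?_⟩
  simp only [OneMemClass.coe_one, one_mul, Submonoid.coe_mul]
  ring

theorem preimage_basicOpen (i k : Fin (n + 1)) (u : T ⟶ Proj (CohB1.polyGrading n RZ.{u}))
    (g : Away (CohB1.polyGrading n RZ.{u}) (X i) →+* Γ(T, ⊤))
    (hg : u = pt (CohB1.polyGrading n RZ.{u}) (X_mem_one i) one_pos g) :
    u ⁻¹ᵁ Proj.basicOpen (CohB1.polyGrading n RZ.{u}) (X k) = T.basicOpen (g (ratio i k)) := by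
  subst hg
  rw [pt_preimage_basicOpen (CohB1.polyGrading n RZ.{u}) (X_mem_one i) one_pos g (X_mem_one k) one_pos]
  congr 2
  apply HomogeneousLocalization.val_injective
  simp [ratio, Away.val_mk]

end scheme

end GrothLib.ProjSpCoord
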