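import Groth.Agent.Lib.ProjSp.Coords
import Mathlib.AlgebraicGeometry.Morphisms.ClosedImmersion
import Mathlib.AlgebraicGeometry.Morphisms.Separated

/-!
# The Segre embedding
-/

set_option backward.isDefEq.respectTransparency false

universe u

open AlgebraicGeometry CategoryTheory CategoryTheory.Limits HomogeneousLocalization GrothLib.ProjPt
  GrothLib.ProjSpCoord

namespace GrothLib.ProjSpSegre

variable (n m : ℕ)

/-- Indexing of the Segre coordinates. -/
def idx : Fin (n + 1) × Fin (m + 1) ≃ Fin (n * m + n + m + 1) :=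
  finProdFinEquiv.trans (finCongr (by ring))

/-- The source `P^n ×_ℤ P^m`. -/
noncomputable abbrev Q : Scheme.{u} :=
  pullback (CohB1.ProjSpace.toSpec n RZ.{u}) (CohB1.ProjSpace.toSpec m RZ.{u})

/-- The first projection. -/
noncomputable abbrev q₁ : Q.{u} n m ⟶ Proj (CohB1.polyGrading n RZ.{u}) := pullback.fst _ _

/-- The second projection. -/
noncomputable abbrev q₂ : Q.{u} n m ⟶ Proj (CohB1.polyGrading m RZ.{u}) := pullback.snd _ _

/-- The standard opens of the product. -/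
noncomputable def W (p : Fin (n + 1) × Fin (m + 1)) : (Q.{u} n m).Opens :=
  q₁ n m ⁻¹ᵁ Proj.basicOpen (CohB1.polyGrading n RZ.{u}) (MvPolynomial.X p.1) ⊓
    q₂ n m ⁻¹ᵁ Proj.basicOpen (CohB1.polyGrading m RZ.{u}) (MvPolynomial.X p.2)

theorem iSup_basicOpen_X (k : ℕ) :
    ⨆ i : Fin (k + 1), Proj.basicOpen (CohB1.polyGrading k RZ.{u}) (MvPolynomial.X i) = ⊤ := by
  refine Proj.iSup_basicOpen_eq_top' (CohB1.polyGrading k RZ.{u}) (fun i => MvPolynomial.X i)
    (fun i => ⟨1, X_mem_one i⟩) (top_le_iff.mp fun p _ => ?_)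
  induction p using MvPolynomial.induction_on with
  | C r =>
    exact Subalgebra.algebraMap_mem _
      (⟨MvPolynomial.C r, MvPolynomial.isHomogeneous_C _ r⟩ : CohB1.polyGrading k RZ.{u} 0)
  | add p q hp hq => exact add_mem (hp trivial) (hq trivial)
  | mul_X p i hp => exact mul_mem (hp trivial) (Algebra.subset_adjoin ⟨i, rfl⟩)

theorem isOpenCover_W : TopologicalSpace.IsOpenCover (W.{u} n m) := by
  refine TopologicalSpace.IsOpenCover.mk (top_le_iff.mp fun x _ => ?_)
  obtain ⟨i, hi⟩ := TopologicalSpace.Opens.mem_iSup.mp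
    ((iSup_basicOpen_X.{u} n).ge (Set.mem_univ ((q₁ n m).base x)))
  obtain ⟨j, hj⟩ := TopologicalSpace.Opens.mem_iSup.mp
    ((iSup_basicOpen_X.{u} m).ge (Set.mem_univ ((q₂ n m).base x)))
  exact TopologicalSpace.Opens.mem_iSup.mpr ⟨(i, j), hi, hj⟩

theorem preimage_fst (p : Fin (n + 1) × Fin (m + 1)) :
    ((W.{u} n m p).ι ≫ q₁ n m) ⁻¹ᵁ Proj.basicOpen (CohB1.polyGrading n RZ.{u}) (MvPolynomial.X p.1) = ⊤ :=
  top_le_iff.mp fun x _ => x.2.1

theorem preimage_snd (p : Fin (n + 1) × Fin (m + 1)) :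
    ((W.{u} n m p).ι ≫ q₂ n m) ⁻¹ᵁ Proj.basicOpen (CohB1.polyGrading m RZ.{u}) (MvPolynomial.X p.2) = ⊤ :=
  top_le_iff.mp fun x _ => x.2.2

/-- Chart coordinates of the first projection. -/
noncomputable def g₁ (p : Fin (n + 1) × Fin (m + 1)) :
    Away (CohB1.polyGrading n RZ.{u}) (MvPolynomial.X p.1) →+* Γ((W.{u} n m p).toScheme, ⊤) :=
  (exists_eq_pt (CohB1.polyGrading n RZ.{u}) (X_mem_one p.1) one_pos _ (preimage_fst n m p)).choose

/-- Chart coordinates of the second projection. -/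
noncomputable def g₂ (p : Fin (n + 1) × Fin (m + 1)) :
    Away (CohB1.polyGrading m RZ.{u}) (MvPolynomial.X p.2) →+* Γ((W.{u} n m p).toScheme, ⊤) :=
  (exists_eq_pt (CohB1.polyGrading m RZ.{u}) (X_mem_one p.2) one_pos _ (preimage_snd n m p)).choose

theorem g₁_spec (p : Fin (n + 1) × Fin (m + 1)) :
    (W.{u} n m p).ι ≫ q₁ n m = pt (CohB1.polyGrading n RZ.{u}) (X_mem_one p.1) one_pos (g₁ n m p) :=
  (exists_eq_pt (CohB1.polyGrading n RZ.{u}) (X_mem_one p.1) one_pos _ (preimage_fst n m p)).choose_spec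

theorem g₂_spec (p : Fin (n + 1) × Fin (m + 1)) :
    (W.{u} n m p).ι ≫ q₂ n m = pt (CohB1.polyGrading m RZ.{u}) (X_mem_one p.2) one_pos (g₂ n m p) :=
  (exists_eq_pt (CohB1.polyGrading m RZ.{u}) (X_mem_one p.2) one_pos _ (preimage_snd n m p)).choose_spec

/-- The Segre coordinates on a chart. -/
noncomputable def coordHom (p : Fin (n + 1) × Fin (m + 1)) :
    MvPolynomial (Fin (n * m + n + m + 1)) RZ.{u} →+* Γ((W.{u} n m p).toScheme, ⊤) :=
  evalTuple fun z => g₁ n m p (ratio p.1 ((idx n m).symm z).1) * g₂ n m p (ratio p.2 ((idx n m).symm z).2)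

theorem coordHom_X (p p' : Fin (n + 1) × Fin (m + 1)) :
    coordHom.{u} n m p (MvPolynomial.X (idx n m p')) =
      g₁ n m p (ratio p.1 p'.1) * g₂ n m p (ratio p.2 p'.2) := by
  rw [coordHom, evalTuple_X, Equiv.symm_apply_apply]

theorem coordHom_self (p : Fin (n + 1) × Fin (m + 1)) :
    IsUnit (coordHom.{u} n m p (MvPolynomial.X (idx n m p))) := by
  rw [coordHom_X, ratio_self_map, ratio_self_map, mul_one]
  exact isUnit_one

/-- The Segre map on a chart. -/
noncomputable def φW (p : Fin (n + 1) × Fin (m + 1)) :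
    (W.{u} n m p).toScheme ⟶ Proj (CohB1.polyGrading (n * m + n + m) RZ.{u}) :=
  pt (CohB1.polyGrading (n * m + n + m) RZ.{u}) (X_mem_one (idx n m p)) one_pos
    (evalAway (CohB1.polyGrading (n * m + n + m) RZ.{u}) (coordHom n m p) _ (coordHom_self n m p))

theorem comp_evalAway {σ A S S' : Type u} [CommRing A] [SetLike σ A] [AddSubgroupClass σ A]
    (𝒜 : ℕ → σ) [GradedRing 𝒜] [CommRing S] [CommRing S'] (h : S →+* S') (f : A →+* S) {d : ℕ}
    {x : A} (hxd : x ∈ 𝒜 d) (hx : IsUnit (f x)) :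
    h.comp (evalAway 𝒜 f x hx) = evalAway 𝒜 (h.comp f) x (hx.map h) := by
  refine RingHom.ext fun z => ?_
  obtain ⟨k, a, ha, rfl⟩ := Away.mk_surjective 𝒜 hxd z
  refine ((hx.map h).pow k).mul_left_injective ?_
  dsimp only
  rw [RingHom.comp_apply, show h (f x) = (h.comp f) x from rfl,
    evalAway_mk_spec 𝒜 (h.comp f) hxd (hx.map h) k a ha, RingHom.comp_apply, RingHom.comp_apply,
    ← map_pow, ← map_mul, evalAway_mk_spec 𝒜 f hxd hx k a ha]

theorem φW_agree {T : Scheme.{u}} (p p' : Fin (n + 1) × Fin (m + 1))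
    (h : T ⟶ (W.{u} n m p).toScheme) (h' : T ⟶ (W.{u} n m p').toScheme)
    (hh : h ≫ (W.{u} n m p).ι = h' ≫ (W.{u} n m p').ι) :
    h ≫ φW n m p = h' ≫ φW n m p' := by
  have e1 : h ≫ (W.{u} n m p).ι ≫ q₁ n m = pt _ (X_mem_one p'.1) one_pos (h'.appTop.hom.comp (g₁ n m p')) := by
    rw [reassoc_of% hh, g₁_spec, comp_pt]
  have e2 : h ≫ (W.{u} n m p).ι ≫ q₂ n m = pt _ (X_mem_one p'.2) one_pos (h'.appTop.hom.comp (g₂ n m p')) := by
    rw [reassoc_of% hh, g₂_spec, comp_pt]
  have f1 : h ≫ (W.{u} n m p).ι ≫ q₁ n m = pt _ (X_mem_one p.1) one_pos (h.appTop.hom.comp (g₁ n m p)) := by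
    rw [g₁_spec, comp_pt]
  have f2 : h ≫ (W.{u} n m p).ι ≫ q₂ n m = pt _ (X_mem_one p.2) one_pos (h.appTop.hom.comp (g₂ n m p)) := by
    rw [g₂_spec, comp_pt]
  let F := h.appTop.hom.comp (coordHom n m p)
  let F' := h'.appTop.hom.comp (coordHom n m p')
  let c := h.appTop.hom (g₁ n m p (ratio p.1 p'.1)) * h.appTop.hom (g₂ n m p (ratio p.2 p'.2))
  have key : ∀ z, F (MvPolynomial.X z) = c * F' (MvPolynomial.X z) := by
    intro z
    obtain ⟨q, rfl⟩ := (idx n m).surjective z
    have h1 := coords_change p.1 p'.1 q.1 _ _ _ f1 e1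
    have h2 := coords_change p.2 p'.2 q.2 _ _ _ f2 e2
    simp only [RingHom.comp_apply] at h1 h2
    simp only [F, F', c, RingHom.comp_apply, coordHom_X, map_mul, h1, h2]
    ring
  have hunit : IsUnit c := by
    have h1 := coords_change p.1 p'.1 p.1 _ _ _ f1 e1
    have h2 := coords_change p.2 p'.2 p.2 _ _ _ f2 e2
    simp only [RingHom.comp_apply, ratio_self_map, map_one] at h1 h2
    exact (IsUnit.of_mul_eq_one _ h1.symm).mul (IsUnit.of_mul_eq_one _ h2.symm)
  have hF' : IsUnit (F' (MvPolynomial.X (idx n m p'))) := (coordHom_self n m p').map h'.appTop.hom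
  have hF : IsUnit (F (MvPolynomial.X (idx n m p'))) := by rw [key]; exact hunit.mul hF'
  rw [φW, φW, comp_pt, comp_pt, comp_evalAway _ _ _ (X_mem_one _), comp_evalAway _ _ _ (X_mem_one _),
    pt_evalAway_eq (CohB1.polyGrading (n * m + n + m) RZ.{u}) (X_mem_one _) one_pos F
      ((coordHom_self n m p).map h.appTop.hom) (X_mem_one (idx n m p')) one_pos hF]
  congr 1
  exact evalAway_eq_of_twist _ F' F (X_mem_one _) hF' hF c (map_eq_pow_mul F' F c key)

/-- The cover of the product. -/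
noncomputable def cover : (Q.{u} n m).OpenCover :=
  (Q.{u} n m).openCoverOfIsOpenCover (W n m) (isOpenCover_W n m)

/-- The Segre map over the integers. -/
noncomputable def φ : Q.{u} n m ⟶ Proj (CohB1.polyGrading (n * m + n + m) RZ.{u}) :=
  (cover n m).glueMorphisms (fun p => φW n m p) fun p p' =>
    φW_agree n m p p' _ _ pullback.condition

theorem ι_φ (p : Fin (n + 1) × Fin (m + 1)) : (W.{u} n m p).ι ≫ φ n m = φW n m p :=
  (cover.{u} n m).ι_glueMorphisms _ _ p

theorem φ_preimage (p : Fin (n + 1) × Fin (m + 1)) :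
    φ.{u} n m ⁻¹ᵁ Proj.basicOpen (CohB1.polyGrading (n * m + n + m) RZ.{u})
      (MvPolynomial.X (idx n m p)) = W n m p := by
  ext x
  obtain ⟨q, y, rfl⟩ := (cover.{u} n m).exists_eq x
  have h1 : (W.{u} n m q).ι ⁻¹ᵁ (φ n m ⁻¹ᵁ Proj.basicOpen (CohB1.polyGrading (n * m + n + m) RZ.{u})
      (MvPolynomial.X (idx n m p))) = (W.{u} n m q).ι ⁻¹ᵁ W n m p := by
    change _ = (W.{u} n m q).ι ⁻¹ᵁ (q₁ n m ⁻¹ᵁ Proj.basicOpen (CohB1.polyGrading n RZ.{u})
      (MvPolynomial.X p.1) ⊓ q₂ n m ⁻¹ᵁ Proj.basicOpen (CohB1.polyGrading m RZ.{u}) (MvPolynomial.X p.2))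
    rw [← Scheme.Hom.comp_preimage, ι_φ, φW,
      pt_evalAway_preimage_basicOpen _ (X_mem_one _) one_pos _ _ (X_mem_one _) one_pos,
      coordHom_X, Scheme.basicOpen_mul, Scheme.Hom.preimage_inf, ← Scheme.Hom.comp_preimage,
      ← Scheme.Hom.comp_preimage, preimage_basicOpen q.1 p.1 _ _ (g₁_spec n m q),
      preimage_basicOpen q.2 p.2 _ _ (g₂_spec n m q)]
  exact SetLike.ext_iff.mp h1 y

/-- The restriction of the Segre map over a chart, as a map into the chart. -/
noncomputable def ψ (p : Fin (n + 1) × Fin (m + 1)) : (W.{u} n m p).toScheme ⟶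
    (Proj.basicOpen (CohB1.polyGrading (n * m + n + m) RZ.{u}) (MvPolynomial.X (idx n m p))).toScheme :=
  IsOpenImmersion.lift (Scheme.Opens.ι _) (φW n m p) (by
    rw [Scheme.Opens.range_ι]
    rintro _ ⟨y, rfl⟩
    rw [← ι_φ]
    have hy : (W.{u} n m p).ι.base y ∈ φ n m ⁻¹ᵁ Proj.basicOpen (CohB1.polyGrading (n * m + n + m) RZ.{u})
        (MvPolynomial.X (idx n m p)) := by rw [φ_preimage]; exact y.2
    exact hy)

theorem ψ_ι (p : Fin (n + 1) × Fin (m + 1)) :
    ψ.{u} n m p ≫ Scheme.Opens.ι _ = φW n m p := IsOpenImmersion.lift_fac _ _ _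

theorem isClosedImmersion_ψ (p : Fin (n + 1) × Fin (m + 1)) : IsClosedImmersion (ψ.{u} n m p) := by
  set D := Proj.basicOpen (CohB1.polyGrading (n * m + n + m) RZ.{u}) (MvPolynomial.X (idx n m p))
    with hD
  obtain ⟨g, hg⟩ := exists_eq_pt (CohB1.polyGrading (n * m + n + m) RZ.{u}) (X_mem_one (idx n m p))
    one_pos D.ι D.ι_preimage_self
  let f₁ : MvPolynomial (Fin (n + 1)) RZ.{u} →+* Γ(D.toScheme, ⊤) :=
    evalTuple fun a => g (ratio (idx n m p) (idx n m (a, p.2)))
  let f₂ : MvPolynomial (Fin (m + 1)) RZ.{u} →+* Γ(D.toScheme, ⊤) :=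
    evalTuple fun b => g (ratio (idx n m p) (idx n m (p.1, b)))
  have hf₁ : IsUnit (f₁ (MvPolynomial.X p.1)) := by simp [f₁, ratio_self_map]
  have hf₂ : IsUnit (f₂ (MvPolynomial.X p.2)) := by simp [f₂, ratio_self_map]
  let r : D.toScheme ⟶ Q.{u} n m := pullback.lift
    (pt _ (X_mem_one p.1) one_pos (evalAway (CohB1.polyGrading n RZ.{u}) f₁ _ hf₁))
    (pt _ (X_mem_one p.2) one_pos (evalAway (CohB1.polyGrading m RZ.{u}) f₂ _ hf₂))
    (specULiftZIsTerminal.hom_ext _ _)
  have hr : Set.range r.base ⊆ Set.range (W.{u} n m p).ι.base := by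
    rw [Scheme.Opens.range_ι]
    rintro _ ⟨y, rfl⟩
    have h : r ⁻¹ᵁ W n m p = ⊤ := by
      rw [W, Scheme.Hom.preimage_inf, ← Scheme.Hom.comp_preimage, ← Scheme.Hom.comp_preimage,
        pullback.lift_fst, pullback.lift_snd, pt_preimage_self, pt_preimage_self]
      exact inf_of_le_left le_rfl
    have hy : y ∈ r ⁻¹ᵁ W n m p := by rw [h]; trivial
    exact hy
  let r' := IsOpenImmersion.lift (W.{u} n m p).ι r hr
  -- the coordinates of the chart pulled back along `ψ`
  have hψg : (ψ.{u} n m p).appTop.hom.comp g =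
      evalAway (CohB1.polyGrading (n * m + n + m) RZ.{u}) (coordHom n m p) _ (coordHom_self n m p) := by
    refine pt_injective _ (X_mem_one (idx n m p)) one_pos ?_
    rw [← comp_pt, ← hg, ψ_ι]
    rfl
  have hval : ∀ q, (ψ.{u} n m p).appTop.hom (g (ratio (idx n m p) (idx n m q))) =
      g₁ n m p (ratio p.1 q.1) * g₂ n m p (ratio p.2 q.2) := by
    intro q
    have h := evalAway_ratio (coordHom.{u} n m p) (idx n m p) (idx n m q) (coordHom_self n m p)
    rw [← hψg, coordHom_X, coordHom_X, ratio_self_map, ratio_self_map, mul_one, mul_one] at h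
    exact h
  have hid : ψ.{u} n m p ≫ r' = 𝟙 _ := by
    rw [← cancel_mono (W.{u} n m p).ι, Category.assoc, IsOpenImmersion.lift_fac, Category.id_comp]
    apply pullback.hom_ext
    · rw [Category.assoc, pullback.lift_fst, comp_pt, comp_evalAway _ _ _ (X_mem_one _)]
      refine (congrArg (pt _ _ _) ?_).trans (g₁_spec n m p).symm
      refine awayHom_ext fun a => ?_
      have h := evalAway_ratio ((ψ.{u} n m p).appTop.hom.comp f₁) p.1 a (hf₁.map (ψ.{u} n m p).appTop.hom)
      have ea : f₁ (MvPolynomial.X a) = g (ratio (idx n m p) (idx n m (a, p.2))) := evalTuple_X _ a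
      have eb : f₁ (MvPolynomial.X p.1) = 1 := by simp [f₁, ratio_self_map]
      have ec : (ψ.{u} n m p).appTop.hom (f₁ (MvPolynomial.X p.1)) = 1 := by rw [eb, map_one]
      refine ((mul_one _).symm.trans ((congrArg (fun t => _ * t) ec.symm).trans h)).trans ?_
      rw [RingHom.comp_apply, ea, hval, ratio_self_map, mul_one]
    · rw [Category.assoc, pullback.lift_snd, comp_pt, comp_evalAway _ _ _ (X_mem_one _)]
      refine (congrArg (pt _ _ _) ?_).trans (g₂_spec n m p).symm
      refine awayHom_ext fun b => ?_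
      have h := evalAway_ratio ((ψ.{u} n m p).appTop.hom.comp f₂) p.2 b (hf₂.map (ψ.{u} n m p).appTop.hom)
      have ea : f₂ (MvPolynomial.X b) = g (ratio (idx n m p) (idx n m (p.1, b))) := evalTuple_X _ b
      have eb : f₂ (MvPolynomial.X p.2) = 1 := by simp [f₂, ratio_self_map]
      have ec : (ψ.{u} n m p).appTop.hom (f₂ (MvPolynomial.X p.2)) = 1 := by rw [eb, map_one]
      refine ((mul_one _).symm.trans ((congrArg (fun t => _ * t) ec.symm).trans h)).trans ?_
      rw [RingHom.comp_apply, ea, hval, ratio_self_map, one_mul]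
  have : IsClosedImmersion (ψ.{u} n m p ≫ r') := by rw [hid]; infer_instance
  have : IsSeparated (r' ≫ terminal.from _) := by
    rw [show r' ≫ terminal.from _ = D.ι ≫ terminal.from _ from terminal.hom_ext _ _]
    infer_instance
  have : IsSeparated r' := IsSeparated.of_comp r' (terminal.from _)
  exact IsClosedImmersion.of_comp (ψ.{u} n m p) r'

theorem isClosedImmersion_φ : IsClosedImmersion (φ.{u} n m) := by
  refine IsZariskiLocalAtTarget.of_iSup_eq_top (P := @IsClosedImmersion)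
    (fun z : Fin (n * m + n + m + 1) =>
      Proj.basicOpen (CohB1.polyGrading (n * m + n + m) RZ.{u}) (MvPolynomial.X z))
    (iSup_basicOpen_X (n * m + n + m)) fun z => ?_
  obtain ⟨p, rfl⟩ := (idx n m).surjective z
  have : IsClosedImmersion (ψ.{u} n m p) := isClosedImmersion_ψ n m p
  have h : φ.{u} n m ∣_ Proj.basicOpen (CohB1.polyGrading (n * m + n + m) RZ.{u})
      (MvPolynomial.X (idx n m p)) =
      (Scheme.isoOfEq _ (φ_preimage n m p)).hom ≫ ψ n m p := by
    rw [← cancel_mono (Scheme.Opens.ι _), morphismRestrict_ι, Category.assoc, ψ_ι, ← ι_φ,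
      ← Category.assoc, Scheme.isoOfEq_hom_ι]
  rw [h]
  infer_instance

/-- The Segre embedding over any base. -/
theorem exists_segre (S : Scheme.{u}) :
    ∃ φS : pullback (CohB1.ProjSpaceOver.toBase n S) (CohB1.ProjSpaceOver.toBase m S) ⟶
        CohB1.ProjSpaceOver (n * m + n + m) S,
      IsClosedImmersion φS ∧ φS ≫ CohB1.ProjSpaceOver.toBase (n * m + n + m) S =
        pullback.fst (CohB1.ProjSpaceOver.toBase n S) (CohB1.ProjSpaceOver.toBase m S) ≫
          CohB1.ProjSpaceOver.toBase n S := by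
  let t := specULiftZIsTerminal.from S
  let QS := pullback (CohB1.ProjSpaceOver.toBase n S) (CohB1.ProjSpaceOver.toBase m S)
  let toQ : QS ⟶ Q.{u} n m := pullback.lift (pullback.fst _ _ ≫ pullback.fst _ _)
    (pullback.snd _ _ ≫ pullback.fst _ _) (specULiftZIsTerminal.hom_ext _ _)
  let base : QS ⟶ S := pullback.fst _ _ ≫ CohB1.ProjSpaceOver.toBase n S
  let qQ : Q.{u} n m ⟶ Spec (CommRingCat.of RZ.{u}) := pullback.fst _ _ ≫ CohB1.ProjSpace.toSpec n RZ.{u}
  let e : QS ≅ pullback qQ t :=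
    { hom := pullback.lift toQ base (specULiftZIsTerminal.hom_ext _ _)
      inv := pullback.lift
        (pullback.lift (pullback.fst qQ t ≫ q₁ n m) (pullback.snd qQ t) (specULiftZIsTerminal.hom_ext _ _))
        (pullback.lift (pullback.fst qQ t ≫ q₂ n m) (pullback.snd qQ t) (specULiftZIsTerminal.hom_ext _ _))
        (by simp [CohB1.ProjSpaceOver.toBase])
      hom_inv_id := by
        apply pullback.hom_ext <;> apply pullback.hom_ext
        · simp [toQ, q₁, CohB1.ProjSpaceOver.toBase]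
        · simp [base, CohB1.ProjSpaceOver.toBase]
        · simp [toQ, q₂, CohB1.ProjSpaceOver.toBase]
        · simp only [Category.assoc, pullback.lift_snd_assoc, pullback.lift_snd, Category.id_comp]
          exact pullback.condition (f := CohB1.ProjSpaceOver.toBase n S)
            (g := CohB1.ProjSpaceOver.toBase m S)
      inv_hom_id := by
        apply pullback.hom_ext
        · apply pullback.hom_ext
          · simp [toQ, q₁, CohB1.ProjSpaceOver.toBase]
          · simp [toQ, q₂, CohB1.ProjSpaceOver.toBase]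
        · simp [base, CohB1.ProjSpaceOver.toBase] }
  let M : pullback qQ t ⟶ CohB1.ProjSpaceOver (n * m + n + m) S :=
    pullback.map qQ t (CohB1.ProjSpace.toSpec (n * m + n + m) RZ.{u}) t (φ n m) (𝟙 S) (𝟙 _)
      (specULiftZIsTerminal.hom_ext _ _) (by simp)
  have hM : IsClosedImmersion M :=
    MorphismProperty.pullbackMap (P := @IsClosedImmersion) (isClosedImmersion_φ n m)
      (inferInstanceAs (IsClosedImmersion (𝟙 S))) (specULiftZIsTerminal.hom_ext _ _) (Category.id_comp _).symm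
  haveI : IsIso e.hom := Iso.isIso_hom e
  refine ⟨e.hom ≫ M, (MorphismProperty.cancel_left_of_respectsIso @IsClosedImmersion e.hom M).mpr hM, ?_⟩
  simp [M, e, base, CohB1.ProjSpaceOver.toBase, t]

end GrothLib.ProjSpSegre
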