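import Groth.Agent.Lib.Ample.ProjExt
import Groth.Agent.Lib.Ample.VeryAmpleProd
import Groth.Agent.Lib.Ample.QuasiProj

/-!
# `ℙⁿ` over an affine base maps isomorphically onto `Proj R[X₀, …, Xₙ]`
-/

universe u

set_option backward.isDefEq.respectTransparency false

open AlgebraicGeometry CategoryTheory CategoryTheory.Limits TopologicalSpace Opposite MvPolynomial

noncomputable section

namespace GrothLib.Ample.ProjMap

variable {n : ℕ} {R R' : Type u} [CommRing R] [CommRing R'] {Z : Scheme.{u}}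

/-- A morphism to projective space is determined by the base and the pulled-back ratios. -/
theorem ext_of_ratios (r r' : Z ⟶ CohB1.ProjSpace n R)
    (hrr' : r ≫ CohB1.ProjSpace.toSpec n R = r' ≫ CohB1.ProjSpace.toSpec n R)
    (hle : ∀ k : ULift.{u} (Fin (n + 1)), r ⁻¹ᵁ (pcoc n R).D k ≤ r' ⁻¹ᵁ (pcoc n R).D k)
    (heq : ∀ (k : ULift.{u} (Fin (n + 1))) j, pullRatio r k.down j = res (hle k) (pullRatio r' k.down j)) :
    r = r' := by
  let U : ULift.{u} (Fin (n + 1)) → Z.Opens := fun k => r ⁻¹ᵁ (pcoc n R).D k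
  let U' : ULift.{u} (Fin (n + 1)) → Z.Opens := fun k => r' ⁻¹ᵁ (pcoc n R).D k
  refine Scheme.hom_ext_of_forall _ _ fun x => ?_
  obtain ⟨(k : ULift.{u} (Fin (n + 1))), hk⟩ := (pcoc n R).exists_mem (r x)
  refine ⟨U k, hk, ?_⟩
  obtain ⟨g, hg, hgr⟩ := pullRatio_spec r k.down
  obtain ⟨g', hg', hgr'⟩ := pullRatio_spec r' k.down
  let j : (U k : Scheme.{u}) ⟶ U' k := Z.homOfLE (hle k)
  have e : (U k).ι ≫ r' = ProjPt.pt (CohB1.polyGrading n R) (X_mem k.down) one_pos (j.appTop.hom.comp g') := by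
    rw [← ProjPt.comp_pt, ← hg', ← Category.assoc]
    congr 1
    exact (Scheme.homOfLE_ι _ _).symm
  rw [e]
  refine hg.trans ?_
  congr 1
  refine awayHom_ext ?_ fun i => ?_
  · have h0 : (U k).ι ≫ r ≫ CohB1.ProjSpace.toSpec n R = (U k).ι ≫ r' ≫ CohB1.ProjSpace.toSpec n R :=
      congrArg ((U k).ι ≫ ·) hrr'
    have h : ProjPt.pt (CohB1.polyGrading n R) (X_mem k.down) one_pos g ≫ CohB1.ProjSpace.toSpec n R =
        ProjPt.pt (CohB1.polyGrading n R) (X_mem k.down) one_pos (j.appTop.hom.comp g') ≫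
          CohB1.ProjSpace.toSpec n R :=
      ((congrArg (· ≫ CohB1.ProjSpace.toSpec n R) hg).symm.trans (Category.assoc _ _ _)).trans
        (h0.trans ((Category.assoc _ _ _).symm.trans (congrArg (· ≫ CohB1.ProjSpace.toSpec n R) e)))
    exact congrArg CommRingCat.Hom.hom (ProjPt.toSpecΓ_comp_SpecMap_injective
      ((pt_toSpec k.down g).symm.trans (h.trans (pt_toSpec k.down (j.appTop.hom.comp g')))))
  · refine (hgr i).trans (Eq.trans ?_ (congrArg j.appTop.hom (hgr' i)).symm)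
    rw [heq]
    refine Eq.symm ((Data.appTop_topIso_inv (Y := Z) j (U k).ι (Scheme.homOfLE_ι _ _)
      (fun z _ => hle k z.2) _).trans ?_)
    rw [Scheme.Opens.ι_appLE]
    exact (res_res _ _ _).symm

theorem res_pullRatio (r : Z ⟶ CohB1.ProjSpace n R) (i k : Fin (n + 1)) {W : Z.Opens}
    (hi : W ≤ r ⁻¹ᵁ (pcoc n R).D ⟨i⟩) (hk : W ≤ r ⁻¹ᵁ (pcoc n R).D ⟨k⟩) :
    res hi (pullRatio r i k) =
      (r.appLE ((pcoc n R).D ⟨i⟩ ⊓ (pcoc n R).D ⟨k⟩) W (le_inf hi hk)).hom
        ((pcoc n R).G ⟨i⟩ ⟨k⟩ inf_le_left inf_le_right) := by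
  rw [pullRatio, res_appLE]
  exact (appLE_res r _ _ _).symm.trans (congrArg _ (g_pcoc ⟨i⟩ ⟨k⟩ inf_le_left inf_le_right).symm)

/-- The coordinate ratios of a morphism to projective space, over any affine base. -/
def dataOfMorphism (r : Z ⟶ CohB1.ProjSpace n R) (q : Z ⟶ Spec (CommRingCat.of R')) : Data (R := R') n q where
  U i := r ⁻¹ᵁ (pcoc n R).D ⟨i⟩
  φ i k := pullRatio r i k
  cover := by
    refine eq_top_iff.2 fun x _ => ?_
    obtain ⟨(k : ULift.{u} (Fin (n + 1))), hk⟩ := (pcoc n R).exists_mem (r x)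
    exact Opens.mem_iSup.2 ⟨k.down, hk⟩
  self i := by
    rw [pullRatio, ratio_self, map_one, map_one]
  change i j k W hi hj := by
    let D : ULift.{u} (Fin (n + 1)) → (Proj (CohB1.polyGrading n R)).Opens := (pcoc n R).D
    let O : (Proj (CohB1.polyGrading n R)).Opens := D ⟨i⟩ ⊓ D ⟨j⟩
    have hO : W ≤ r ⁻¹ᵁ O := le_inf hi hj
    have hW : ∀ (p : Fin (n + 1)) (hp : W ≤ r ⁻¹ᵁ D ⟨p⟩) (q : Fin (n + 1)),
        res hp (pullRatio r p q) = (r.appLE (D ⟨p⟩) W hp).hom
          (Proj.awayToSection (CohB1.polyGrading n R) (X p) (ratio p q)) := fun p hp q => by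
      rw [pullRatio, res_appLE]
    rw [hW i hi k, hW i hi j, hW j hj k,
      ← appLE_res r (inf_le_left : O ≤ D ⟨i⟩) hO, ← appLE_res r (inf_le_left : O ≤ D ⟨i⟩) hO,
      ← appLE_res r (inf_le_right : O ≤ D ⟨j⟩) hO, ← map_mul]
    refine congrArg (r.appLE O W hO).hom ?_
    refine ProjTwist.ev_ext fun y => ?_
    refine (((ProjTwist.ev_res _ _ y).trans (ev_awayToSection_ratio i k _)).trans ?_).trans
      ((ProjTwist.ev_mul _ _ y).trans (congrArg₂ (· * ·) ((ProjTwist.ev_res _ _ y).trans (ev_awayToSection_ratio i j _))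
        ((ProjTwist.ev_res _ _ y).trans (ev_awayToSection_ratio j k _)))).symm
    rw [Localization.mk_mul, Localization.mk_eq_mk_iff, Localization.r_iff_exists]
    refine ⟨1, ?_⟩
    simp only [Submonoid.coe_mul, OneMemClass.coe_one, one_mul]
    ring
  basicOpen_eq i j := by
    refine le_antisymm (le_inf (Z.basicOpen_le _) (basicOpen_pullRatio_le r i j)) ?_
    let W : Z.Opens := r ⁻¹ᵁ (pcoc n R).D ⟨i⟩ ⊓ r ⁻¹ᵁ (pcoc n R).D ⟨j⟩
    have h : IsUnit (res (inf_le_left : W ≤ _) (pullRatio r i j)) := by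
      rw [res_pullRatio r i j inf_le_left inf_le_right]
      exact ((pcoc n R).isUnit_G _ _ _ _).map _
    exact fun x hx => ((Scheme.basicOpen_res Z (pullRatio r i j) (homOfLE (inf_le_left : W ≤ _)).op).le
      ((Scheme.basicOpen_of_isUnit Z h).ge hx)).2

/-- The comparison from `ℙⁿ` over an affine base to `Proj` of the polynomial ring. -/
def toProjSpace (n : ℕ) (R : Type u) [CommRing R] :
    CohB1.ProjSpaceOver n (Spec (CommRingCat.of R)) ⟶ CohB1.ProjSpace n R :=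
  (dataOfMorphism (pullback.fst (CohB1.ProjSpace.toSpec n (ULift.{u} ℤ)) (specULiftZIsTerminal.from _))
    (CohB1.ProjSpaceOver.toBase n (Spec (CommRingCat.of R)))).map

theorem toProjSpace_toSpec (n : ℕ) (R : Type u) [CommRing R] :
    toProjSpace n R ≫ CohB1.ProjSpace.toSpec n R = CohB1.ProjSpaceOver.toBase n (Spec (CommRingCat.of R)) :=
  Data.map_toSpec _

theorem isClosedImmersion_toProjSpace (n : ℕ) (R : Type u) [CommRing R] :
    IsClosedImmersion (toProjSpace n R) := by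
  let pr : CohB1.ProjSpaceOver n (Spec (CommRingCat.of R)) ⟶ CohB1.ProjSpace n (ULift.{u} ℤ) :=
    pullback.fst (CohB1.ProjSpace.toSpec n (ULift.{u} ℤ)) (specULiftZIsTerminal.from _)
  let Dθ := dataOfMorphism pr (CohB1.ProjSpaceOver.toBase n (Spec (CommRingCat.of R)))
  let θ := toProjSpace n R
  let q₀ : CohB1.ProjSpace n R ⟶ Spec (CommRingCat.of (ULift.{u} ℤ)) := specULiftZIsTerminal.from _
  let Dχ := dataOfMorphism (𝟙 (CohB1.ProjSpace n R)) q₀
  let χ : CohB1.ProjSpace n R ⟶ CohB1.ProjSpace n (ULift.{u} ℤ) := Dχ.map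
  let ψ : CohB1.ProjSpace n R ⟶ CohB1.ProjSpaceOver n (Spec (CommRingCat.of R)) :=
    pullback.lift χ (CohB1.ProjSpace.toSpec n R) (specULiftZIsTerminal.hom_ext _ _)
  have hχ : θ ≫ χ = pr := by
    have hle : ∀ k : ULift.{u} (Fin (n + 1)),
        (θ ≫ χ) ⁻¹ᵁ (pcoc n (ULift.{u} ℤ)).D k ≤ pr ⁻¹ᵁ (pcoc n (ULift.{u} ℤ)).D k := fun k => by
      rw [Scheme.Hom.comp_preimage]
      exact le_of_eq ((congrArg (θ ⁻¹ᵁ ·) (Dχ.map_preimage k.down)).trans (Dθ.map_preimage k.down))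
    refine ext_of_ratios _ _ (specULiftZIsTerminal.hom_ext _ _) hle fun k j => ?_
    obtain ⟨k⟩ := k
    rw [pullRatio, ← Scheme.Hom.appLE_comp_appLE θ χ ((pcoc n (ULift.{u} ℤ)).D ⟨k⟩)
      ((pcoc n R).D ⟨k⟩) _ (Dχ.map_preimage k).ge (le_of_eq (Scheme.Hom.comp_preimage θ χ _ ▸
        congrArg (θ ⁻¹ᵁ ·) (Dχ.map_preimage k))), CommRingCat.comp_apply]
    refine (congrArg _ (Dχ.map_appLE_ratio k j le_rfl (Dχ.map_preimage k).ge)).trans ?_
    rw [res_self]
    refine (congrArg _ (?_ : _ = Proj.awayToSection (CohB1.polyGrading n R) (X k) (ratio k j))).trans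
      (Dθ.map_appLE_ratio k j (hle ⟨k⟩) _)
    show (Scheme.Hom.appLE (𝟙 (CohB1.ProjSpace n R)) _ _ _).hom _ = _
    simp [Scheme.Hom.appLE]
    rfl
  have hid : θ ≫ ψ = 𝟙 _ := by
    refine pullback.hom_ext ?_ ?_
    · rw [Category.assoc, pullback.lift_fst, Category.id_comp]; exact hχ
    · rw [Category.assoc, pullback.lift_snd, Category.id_comp]; exact toProjSpace_toSpec n R
  haveI : IsSeparated (CohB1.ProjSpace.toSpec n R) := by
    unfold CohB1.ProjSpace.toSpec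
    exact MorphismProperty.comp_mem @IsSeparated _ _ (Proj.isSeparated _) inferInstance
  haveI : IsSeparated (ψ ≫ CohB1.ProjSpaceOver.toBase n (Spec (CommRingCat.of R))) := by
    rw [show ψ ≫ CohB1.ProjSpaceOver.toBase n (Spec (CommRingCat.of R)) = CohB1.ProjSpace.toSpec n R from
      pullback.lift_snd _ _ _]
    infer_instance
  haveI : IsSeparated ψ := IsSeparated.of_comp ψ (CohB1.ProjSpaceOver.toBase n (Spec (CommRingCat.of R)))
  haveI : IsClosedImmersion (θ ≫ ψ) := by rw [hid]; infer_instance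
  exact IsClosedImmersion.of_comp θ ψ

end GrothLib.Ample.ProjMap
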